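import Groth.Agent.Achinger9.Nagata
import Groth.Agent.EGA41Lib.IntDim
import Mathlib.RingTheory.Etale.Kaehler
import Mathlib.RingTheory.Kaehler.Polynomial
import Mathlib.RingTheory.KrullDimension.Polynomial
import Mathlib.RingTheory.KrullDimension.Field
import Mathlib.RingTheory.QuasiFinite.Basic
import Mathlib.RingTheory.Unramified.LocalStructure
import Mathlib.RingTheory.RingHom.Etale
import Mathlib.RingTheory.RingHom.Finite
import Mathlib.Algebra.CharP.Algebra

/-! An étale algebra over an affine space in characteristic `p` is finite étale over it, for some other map. -/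

set_option autoImplicit false
set_option linter.unusedSectionVars false
set_option linter.style.haveILetI false

universe u

open TensorProduct

namespace Groth.Agent.Achinger9

variable (k : Type u) [Field k] {C : Type u} [CommRing C] [Algebra k C]

/-- A map from an affine space to a smooth algebra is formally étale iff the differentials of the coordinates
form a basis. -/
theorem formallyEtale_iff_bijective {n : ℕ} [Algebra.FormallySmooth k C] [Algebra (MvPolynomial (Fin n) k) C]
    [IsScalarTower k (MvPolynomial (Fin n) k) C] :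
    Algebra.FormallyEtale (MvPolynomial (Fin n) k) C ↔
      Function.Bijective (Fintype.linearCombination C fun i : Fin n =>
        KaehlerDifferential.D k C (algebraMap (MvPolynomial (Fin n) k) C (MvPolynomial.X i))) := by
  let P := MvPolynomial (Fin n) k
  let b := Algebra.TensorProduct.basis C (KaehlerDifferential.mvPolynomialBasis k (Fin n))
  have hcomp : Fintype.linearCombination C (fun i : Fin n =>
      KaehlerDifferential.D k C (algebraMap P C (MvPolynomial.X i))) =
        KaehlerDifferential.mapBaseChange k P C ∘ₗ b.equivFun.symm.toLinearMap := by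
    refine LinearMap.ext fun c => ?_
    simp only [Fintype.linearCombination_apply, LinearMap.coe_comp, LinearEquiv.coe_coe, Function.comp_apply,
      Module.Basis.equivFun_symm_apply, map_sum, map_smul]
    refine Finset.sum_congr rfl fun i _ => ?_
    rw [Algebra.TensorProduct.basis_apply, KaehlerDifferential.mapBaseChange_tmul, one_smul,
      KaehlerDifferential.mvPolynomialBasis_apply, KaehlerDifferential.map_D]
  rw [hcomp, LinearMap.coe_comp, LinearEquiv.coe_coe]
  constructor
  · intro h
    exact ((KaehlerDifferential.tensorKaehlerEquivOfFormallyEtale k P C).bijective).comp b.equivFun.symm.bijective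
  · intro h
    replace h : Function.Bijective (KaehlerDifferential.mapBaseChange k P C) :=
      (Function.Bijective.of_comp_iff _ b.equivFun.symm.bijective).1 h
    refine ⟨⟨fun x y => ?_⟩, ⟨fun x y => ?_⟩⟩
    · obtain ⟨a, rfl⟩ := KaehlerDifferential.map_surjective k P C x
      obtain ⟨a', rfl⟩ := KaehlerDifferential.map_surjective k P C y
      obtain ⟨s, rfl⟩ := h.2 a
      obtain ⟨s', rfl⟩ := h.2 a'
      rw [((KaehlerDifferential.exact_mapBaseChange_map k P C).apply_apply_eq_zero s),
        ((KaehlerDifferential.exact_mapBaseChange_map k P C).apply_apply_eq_zero s')]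
    · have hz : ∀ z : Algebra.H1Cotangent P C, z = 0 := by
        intro z
        have hδ : Algebra.H1Cotangent.δ k P C z = 0 := h.1 (by
          rw [(Algebra.H1Cotangent.exact_δ_mapBaseChange k P C).apply_apply_eq_zero, map_zero])
        obtain ⟨w, rfl⟩ := (Algebra.H1Cotangent.exact_map_δ k P C z).1 hδ
        rw [Subsingleton.elim w 0, map_zero]
      rw [hz x, hz y]

open MvPolynomial in
/-- The substitution step: finiteness is kept and one variable is removed. -/
theorem finite_subst {M : ℕ} (q : ℕ) [NeZero q] (f : MvPolynomial (Fin (M + 1)) k) (hf : f ≠ 0)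
    (y : Fin (M + 1) → C) (hy : aeval y f = 0) (hfin : (aeval (R := k) y).toRingHom.Finite) :
    (aeval (R := k) fun i : Fin M => y i.succ - y 0 ^ (q * (2 + f.totalDegree)) ^ (i.succ : ℕ)).toRingHom.Finite := by
  set y' : Fin M → C := fun i => y i.succ - y 0 ^ (q * (2 + f.totalDegree)) ^ (i.succ : ℕ) with hy'
  let P := MvPolynomial (Fin M) k
  letI : Algebra P C := (aeval (R := k) y').toRingHom.toAlgebra
  haveI : IsScalarTower k P C := IsScalarTower.of_algebraMap_eq fun c => ((aeval (R := k) y').commutes c).symm
  have hX : ∀ i, algebraMap P C (X i) = y' i := fun i => aeval_X _ _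
  have h1 : (((Polynomial.aeval (y 0) : Polynomial P →ₐ[P] C).restrictScalars k).comp
      (finSuccEquiv k M).toAlgHom).comp (T q f).toAlgHom = aeval y := by
    refine algHom_ext fun i => ?_
    cases i using Fin.cases with
    | zero => simp [finSuccEquiv_X_zero]
    | succ i =>
      simp [finSuccEquiv_X_succ, finSuccEquiv_X_zero, hX, hy', Fin.succ_ne_zero]
  obtain hu := T_leadingcoeff_isUnit q f hf
  have hint : IsIntegral P (y 0) := by
    refine ⟨hu.unit⁻¹.val • finSuccEquiv k M (T q f f), Polynomial.monic_of_isUnit_leadingCoeff_inv_smul hu, ?_⟩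
    rw [← Polynomial.aeval_def, Algebra.smul_def, map_mul]
    have := DFunLike.congr_fun h1 f
    simp only [AlgHom.coe_comp, Function.comp_apply, AlgHom.coe_restrictScalars', AlgEquiv.coe_toAlgHom] at this
    rw [this, hy, mul_zero]
  let S : Subalgebra P C := Algebra.adjoin P {y 0}
  have hmem : ∀ p, aeval (R := k) y p ∈ S := by
    intro p
    induction p using MvPolynomial.induction_on with
    | C c =>
      rw [aeval_C, IsScalarTower.algebraMap_apply k P C]
      exact S.algebraMap_mem _
    | add p p' hp hp' => rw [map_add]; exact S.add_mem hp hp'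
    | mul_X p i hp =>
      rw [map_mul, aeval_X]
      refine S.mul_mem hp ?_
      cases i using Fin.cases with
      | zero => exact Algebra.self_mem_adjoin_singleton P (y 0)
      | succ i =>
        rw [show y i.succ = algebraMap P C (X i) + y 0 ^ (q * (2 + f.totalDegree)) ^ (i.succ : ℕ) from by
          rw [hX, hy']; ring]
        exact S.add_mem (S.algebraMap_mem _) (S.pow_mem (Algebra.self_mem_adjoin_singleton P (y 0)) _)
  have hS : (algebraMap S C).Finite :=
    RingHom.Finite.of_comp_finite (f := (aeval (R := k) y).toRingHom.codRestrict S.toSubsemiring hmem) (by exact hfin)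
  haveI : Module.Finite S C := RingHom.finite_algebraMap.1 hS
  haveI : Module.Finite P S := Module.Finite.iff_fg.2 hint.fg_adjoin_singleton
  show Module.Finite P C
  exact Module.Finite.trans S C

/-- Perturbing the coordinates by `q`-th powers (`q = 0` in `C`) keeps a map formally étale. -/
theorem formallyEtale_perturb {n : ℕ} [Algebra.FormallySmooth k C] (x x' : Fin n → C) (q : ℕ) (hq : (q : C) = 0)
    (hx : ∀ i, ∃ (t : C) (e : ℕ), q ∣ e ∧ x' i = x i - t ^ e)
    (h : (MvPolynomial.aeval (R := k) x).toRingHom.FormallyEtale) :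
    (MvPolynomial.aeval (R := k) x').toRingHom.FormallyEtale := by
  have key : (fun i => KaehlerDifferential.D k C (x' i)) = fun i => KaehlerDifferential.D k C (x i) := by
    funext i
    obtain ⟨t, e, ⟨m, rfl⟩, he⟩ := hx i
    rw [he, map_sub, Derivation.leibniz_pow, ← Nat.cast_smul_eq_nsmul C, Nat.cast_mul, hq, zero_mul, zero_smul,
      sub_zero]
  have crit : ∀ z : Fin n → C, (MvPolynomial.aeval (R := k) z).toRingHom.FormallyEtale ↔
      Function.Bijective (Fintype.linearCombination C fun i => KaehlerDifferential.D k C (z i)) := by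
    intro z
    letI : Algebra (MvPolynomial (Fin n) k) C := (MvPolynomial.aeval (R := k) z).toRingHom.toAlgebra
    haveI : IsScalarTower k (MvPolynomial (Fin n) k) C :=
      IsScalarTower.of_algebraMap_eq fun c => ((MvPolynomial.aeval (R := k) z).commutes c).symm
    have hz : ∀ i, algebraMap (MvPolynomial (Fin n) k) C (MvPolynomial.X i) = z i := fun i => MvPolynomial.aeval_X _ _
    show Algebra.FormallyEtale (MvPolynomial (Fin n) k) C ↔ _
    rw [formallyEtale_iff_bijective k, funext fun i => congrArg (KaehlerDifferential.D k C) (hz i)]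
  rw [crit, key]
  exact (crit x).1 h

theorem exists_relation {N n : ℕ} (hN : n < N) [Nontrivial C] [Algebra (MvPolynomial (Fin n) k) C]
    [Algebra.QuasiFinite (MvPolynomial (Fin n) k) C] (y : Fin N → C)
    (hfin : (MvPolynomial.aeval (R := k) y).toRingHom.Finite) :
    ∃ f : MvPolynomial (Fin N) k, f ≠ 0 ∧ MvPolynomial.aeval y f = 0 := by
  by_contra! hc
  let P := MvPolynomial (Fin N) k
  letI : Algebra P C := (MvPolynomial.aeval (R := k) y).toRingHom.toAlgebra
  haveI : Module.Finite P C := hfin
  have hinj : Function.Injective (algebraMap P C) := by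
    rw [injective_iff_map_eq_zero]
    intro f hf
    by_contra hf0
    exact hc f hf0 hf
  have h1 := EGA41Lib.ringKrullDim_eq_of_integral (A := P) (B := C) hinj
  have h2 : ringKrullDim C ≤ ringKrullDim (MvPolynomial (Fin n) k) :=
    Order.krullDim_le_of_strictMono (PrimeSpectrum.comap (algebraMap (MvPolynomial (Fin n) k) C))
      fun I J hIJ => lt_of_le_of_ne (Ideal.comap_mono hIJ.le) fun he => hIJ.ne
        (PrimeSpectrum.ext (Algebra.QuasiFinite.eq_of_le_of_under_eq (R := MvPolynomial (Fin n) k) _ _
          (show I.asIdeal ≤ J.asIdeal from hIJ.le) (congrArg PrimeSpectrum.asIdeal he)))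
  rw [h1, MvPolynomial.ringKrullDim_of_isNoetherianRing, MvPolynomial.ringKrullDim_of_isNoetherianRing,
    ringKrullDim_eq_zero_of_field k, zero_add, zero_add, Nat.card_fin, Nat.card_fin] at h2
  exact absurd (Nat.cast_le.1 h2) (by omega)

set_option maxHeartbeats 1000000 in
theorem exists_finite_etale_aux (p : ℕ) [Fact p.Prime] [CharP k p] {n : ℕ} [Algebra.FormallySmooth k C]
    [Nontrivial C] [Algebra (MvPolynomial (Fin n) k) C] [Algebra.QuasiFinite (MvPolynomial (Fin n) k) C] :
    ∀ (N : ℕ) (y : Fin N → C) (ι : Fin n → Fin N), Function.Injective ι →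
      (MvPolynomial.aeval (R := k) y).toRingHom.Finite →
      (MvPolynomial.aeval (R := k) (y ∘ ι)).toRingHom.FormallyEtale →
      ∃ x : Fin n → C, (MvPolynomial.aeval (R := k) x).toRingHom.Finite ∧
        (MvPolynomial.aeval (R := k) x).toRingHom.FormallyEtale
  | 0, y, ι, hι, hfin, het => by
    have hn : n = 0 := by simpa using Fintype.card_le_of_injective ι hι
    subst hn
    rw [show y ∘ ι = y from funext fun i => i.elim0] at het
    exact ⟨y, hfin, het⟩
  | M + 1, y, ι, hι, hfin, het => by
    by_cases hs : Function.Surjective ι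
    · refine ⟨y ∘ ι, ?_, het⟩
      let e : Fin n ≃ Fin (M + 1) := Equiv.ofBijective ι ⟨hι, hs⟩
      have he : MvPolynomial.aeval (R := k) y =
          (MvPolynomial.aeval (R := k) (y ∘ ι)).comp (MvPolynomial.rename e.symm) :=
        MvPolynomial.algHom_ext fun i => by simp [show ι (e.symm i) = i from e.apply_symm_apply i]
      rw [he] at hfin
      exact AlgHom.Finite.of_comp_finite hfin
    obtain ⟨t, ht⟩ : ∃ t, ∀ i, ι i ≠ t := by simpa [Function.Surjective] using hs
    let σ : Equiv.Perm (Fin (M + 1)) := Equiv.swap 0 t
    have hσfin : (MvPolynomial.aeval (R := k) (y ∘ σ)).toRingHom.Finite := by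
      have he : MvPolynomial.aeval (R := k) y = (MvPolynomial.aeval (R := k) (y ∘ σ)).comp (MvPolynomial.rename σ) :=
        MvPolynomial.algHom_ext fun i => by simp [σ, Equiv.swap_apply_self]
      rw [he] at hfin
      exact AlgHom.Finite.of_comp_finite hfin
    have hn : n < M + 1 := by
      simpa using Fintype.card_lt_of_injective_not_surjective ι hι hs
    obtain ⟨f, hf, hfy⟩ := exists_relation k hn _ hσfin
    haveI : NeZero p := ⟨(Fact.out : p.Prime).ne_zero⟩
    have hfin' := finite_subst k p f hf _ hfy hσfin
    have hne : ∀ i, σ (ι i) ≠ 0 := fun i h => ht i (by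
      have := congrArg σ h
      simpa [σ, Equiv.swap_apply_self] using this)
    let ι' : Fin n → Fin M := fun i => (σ (ι i)).pred (hne i)
    refine exists_finite_etale_aux p M _ ι' (fun i j hij => hι (σ.injective (Fin.pred_inj.1 hij))) hfin' ?_
    refine formallyEtale_perturb k (y ∘ ι) _ p ?_ (fun i => ⟨(y ∘ σ) 0, (p * (2 + f.totalDegree)) ^ ((ι' i).succ : ℕ), ?_, ?_⟩) het
    · rw [← map_natCast (algebraMap k C), CharP.cast_eq_zero, map_zero]
    · exact dvd_pow (dvd_mul_right p (2 + f.totalDegree)) (by simp)
    · have hs' : (ι' i).succ = σ (ι i) := Fin.succ_pred _ _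
      simp only [Function.comp_apply, hs']
      rw [show σ (σ (ι i)) = ι i from Equiv.swap_apply_self _ _ _]

set_option maxHeartbeats 1000000 in
theorem exists_finite_etale (p : ℕ) [Fact p.Prime] [CharP k p] {n : ℕ} [Algebra (MvPolynomial (Fin n) k) C]
    [IsScalarTower k (MvPolynomial (Fin n) k) C] [Algebra.Etale (MvPolynomial (Fin n) k) C] :
    ∃ φ : MvPolynomial (Fin n) k →ₐ[k] C, φ.toRingHom.Finite ∧ φ.toRingHom.Etale := by
  let P := MvPolynomial (Fin n) k
  rcases subsingleton_or_nontrivial C with hC | hC
  · exact ⟨IsScalarTower.toAlgHom k P C, RingHom.Finite.of_surjective _ fun x => ⟨0, Subsingleton.elim _ _⟩,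
      RingHom.etale_algebraMap.2 inferInstance⟩
  haveI : Algebra.FormallySmooth k C := Algebra.FormallySmooth.comp k P C
  haveI : Algebra.FiniteType k C := Algebra.FiniteType.trans (S := P) inferInstance inferInstance
  obtain ⟨m, g, hg⟩ := Algebra.FiniteType.iff_quotient_mvPolynomial''.1 (inferInstance : Algebra.FiniteType k C)
  let y : Fin (n + m) → C := Fin.append (fun i => algebraMap P C (MvPolynomial.X i)) (fun j => g (MvPolynomial.X j))
  have hfin : (MvPolynomial.aeval (R := k) y).toRingHom.Finite := RingHom.Finite.of_surjective _ fun c => by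
    obtain ⟨a, rfl⟩ := hg c
    refine ⟨MvPolynomial.rename (Fin.natAdd n) a, ?_⟩
    show MvPolynomial.aeval y _ = _
    rw [MvPolynomial.aeval_rename, show y ∘ Fin.natAdd n = fun j => g (MvPolynomial.X j) from
      funext fun j => Fin.append_right _ _ j]
    exact DFunLike.congr_fun (MvPolynomial.aeval_unique g).symm a
  have hy : y ∘ Fin.castAdd m = fun i => algebraMap P C (MvPolynomial.X i) := funext fun i => Fin.append_left _ _ i
  have hphi : MvPolynomial.aeval (R := k) (y ∘ Fin.castAdd m) = IsScalarTower.toAlgHom k P C := by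
    rw [hy]; exact MvPolynomial.algHom_ext fun i => by simp [P]
  obtain ⟨x, hx1, hx2⟩ := exists_finite_etale_aux k p (n + m) y (Fin.castAdd m) (Fin.castAdd_injective n m) hfin (by
    rw [hphi]
    exact RingHom.formallyEtale_algebraMap.2 inferInstance)
  refine ⟨MvPolynomial.aeval x, hx1, ?_⟩
  letI : Algebra (MvPolynomial (Fin n) k) C := (MvPolynomial.aeval (R := k) x).toRingHom.toAlgebra
  haveI h1 : Algebra.FormallyEtale (MvPolynomial (Fin n) k) C := hx2
  haveI h2 : Module.Finite (MvPolynomial (Fin n) k) C := hx1
  show Algebra.Etale (MvPolynomial (Fin n) k) C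
  exact { formallyEtale := h1, finitePresentation := (Algebra.FinitePresentation.of_finiteType).1 inferInstance }

end Groth.Agent.Achinger9
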